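import Cfsg.Agent.H160.DP.Flag

/-!
# No `p'`-group of linear maps is transitive on the flags of a projective plane of odd order, II (helper160)
-/

set_option autoImplicit false

namespace Cfsg.Agent.H160.DP

open Module

variable {F V : Type*} [Field F] [AddCommGroup V] [Module F V]

/-- the scalar maps -/
def scal (F V : Type*) [Field F] [AddCommGroup V] [Module F V] : Fˣ →* (V ≃ₗ[F] V) where
  toFun μ := LinearEquiv.smulOfUnit μ
  map_one' := by ext v; simp [LinearEquiv.smulOfUnit]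
  map_mul' a b := by ext v; simp [LinearEquiv.smulOfUnit, mul_smul]

@[simp] theorem scal_apply (μ : Fˣ) (v : V) : scal F V μ v = (μ : F) • v := rfl

theorem scal_comm (μ : Fˣ) (k : V ≃ₗ[F] V) : scal F V μ * k = k * scal F V μ := by
  ext v; simp

/-- adjoin the scalars -/
def withScal (K : Subgroup (V ≃ₗ[F] V)) : Subgroup (V ≃ₗ[F] V) where
  carrier := {g | ∃ k ∈ K, ∃ μ : Fˣ, g = k * scal F V μ}
  one_mem' := ⟨1, K.one_mem, 1, by rw [map_one, mul_one]⟩
  mul_mem' := by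
    rintro _ _ ⟨k, hk, μ, rfl⟩ ⟨k', hk', μ', rfl⟩
    refine ⟨k * k', mul_mem hk hk', μ * μ', ?_⟩
    rw [map_mul, mul_assoc, ← mul_assoc (scal F V μ), scal_comm, mul_assoc, mul_assoc]
  inv_mem' := by
    rintro _ ⟨k, hk, μ, rfl⟩
    refine ⟨k⁻¹, inv_mem hk, μ⁻¹, ?_⟩
    rw [mul_inv_rev, ← map_inv, scal_comm]

theorem le_withScal (K : Subgroup (V ≃ₗ[F] V)) : K ≤ withScal K := fun k hk =>
  ⟨k, hk, 1, by rw [map_one, mul_one]⟩

theorem scal_mem_withScal (K : Subgroup (V ≃ₗ[F] V)) (μ : Fˣ) : scal F V μ ∈ withScal K :=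
  ⟨1, K.one_mem, μ, by rw [one_mul]⟩

theorem finite_withScal (K : Subgroup (V ≃ₗ[F] V)) [Finite K] [Finite F] : Finite (withScal K) := by
  have h : ((withScal K : Subgroup (V ≃ₗ[F] V)) : Set (V ≃ₗ[F] V)) ⊆
      Set.range fun x : K × Fˣ => (x.1 : V ≃ₗ[F] V) * scal F V x.2 := by
    rintro _ ⟨k, hk, μ, rfl⟩
    exact ⟨(⟨k, hk⟩, μ), rfl⟩
  exact (Set.finite_range _).subset h

theorem not_dvd_withScal {p : ℕ} [hp : Fact p.Prime] [CharP F p] {K : Subgroup (V ≃ₗ[F] V)} [Finite K] [Finite F]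
    (hpK : ¬ p ∣ Nat.card K) : ¬ p ∣ Nat.card (withScal K) := by
  have := finite_withScal K
  intro hd
  obtain ⟨⟨g, hgK⟩, hg⟩ := exists_prime_orderOf_dvd_card' p hd
  rw [Subgroup.orderOf_mk] at hg
  obtain ⟨k, hk, μ, rfl⟩ := hgK
  have hcomm : Commute k (scal F V μ) := (scal_comm μ k).symm
  have : Fintype F := Fintype.ofFinite F
  obtain ⟨n, -, hq⟩ := FiniteField.card F p
  have hμ : μ ^ (Fintype.card F - 1) = 1 := by
    apply Units.ext
    rw [Units.val_pow_eq_pow_val, Units.val_one]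
    exact FiniteField.pow_card_sub_one_eq_one (μ : F) μ.ne_zero
  have h1 : (k * scal F V μ) ^ (Fintype.card F - 1) = k ^ (Fintype.card F - 1) := by
    rw [hcomm.mul_pow, ← map_pow, hμ, map_one, mul_one]
  have hco : p.Coprime (Fintype.card F - 1) := by
    have h2 : 1 ≤ Fintype.card F := Fintype.card_pos
    rw [Nat.Prime.coprime_iff_not_dvd hp.out]
    intro h3
    have h4 : p ∣ Fintype.card F := by rw [hq]; exact dvd_pow_self p n.ne_zero
    have h5 := (Nat.dvd_sub h4 h3)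
    rw [Nat.sub_sub_self h2] at h5
    exact hp.out.one_lt.ne' (Nat.dvd_one.1 h5)
  have h2 : orderOf ((k * scal F V μ) ^ (Fintype.card F - 1)) = p := by
    rw [Nat.Coprime.orderOf_pow (by rw [hg]; exact hco), hg]
  rw [h1] at h2
  apply hpK
  rw [← h2, ← Subgroup.orderOf_mk (k ^ (Fintype.card F - 1)) (K.pow_mem hk _)]
  exact orderOf_dvd_natCard _

/-- an involution `σ ≠ ± 1` gives a homology -/
theorem exists_isHom {p : ℕ} [hp : Fact p.Prime] [CharP F p] (hp2 : p ≠ 2) (hV : finrank F V = 3)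
    {K : Subgroup (V ≃ₗ[F] V)} (hK : ∀ μ, scal F V μ ∈ K) {σ : V ≃ₗ[F] V} (hσ : σ ∈ K) (h2 : σ * σ = 1)
    (hns : ∀ μ, σ ≠ scal F V μ) :
    ∃ σ ∈ K, ∃ c W : Submodule F V, finrank F c = 1 ∧ finrank F W = 2 ∧ IsHom c W σ := by
  have hVf : Module.Finite F V := Module.finite_of_finrank_pos (by omega)
  have h2F : (2 : F) ≠ 0 := by
    intro h3
    have h4 : ((2 : ℕ) : F) = 0 := by exact_mod_cast h3
    rw [CharP.cast_eq_zero_iff F p] at h4
    exact hp2 ((Nat.prime_dvd_prime_iff_eq hp.out Nat.prime_two).1 h4)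
  have hσσ : ∀ v, σ (σ v) = v := fun v => by
    rw [← LinearEquiv.mul_apply, h2]; rfl
  let Ep : Submodule F V := LinearMap.ker ((σ : V →ₗ[F] V) - LinearMap.id)
  let Em : Submodule F V := LinearMap.ker ((σ : V →ₗ[F] V) + LinearMap.id)
  have hEp : ∀ v, v ∈ Ep ↔ σ v = v := fun v => by
    simp only [Ep, LinearMap.mem_ker, LinearMap.sub_apply, LinearMap.id_apply, LinearEquiv.coe_coe, sub_eq_zero]
  have hEm : ∀ v, v ∈ Em ↔ σ v = -v := fun v => by
    simp only [Em, LinearMap.mem_ker, LinearMap.add_apply, LinearMap.id_apply, LinearEquiv.coe_coe,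
      add_eq_zero_iff_eq_neg]
  have hinf : Em ⊓ Ep = ⊥ := by
    rw [Submodule.eq_bot_iff]
    rintro v ⟨h3, h4⟩
    have h3' := (hEm v).1 h3
    rw [(hEp v).1 h4] at h3'
    exact two_smul_eq_zero (F := F) hp2 (by rw [← sub_neg_eq_add, ← h3', sub_self])
  have hsup : Em ⊔ Ep = ⊤ := by
    rw [eq_top_iff]
    intro v _
    have h3 : v = (2 : F)⁻¹ • (v - σ v) + (2 : F)⁻¹ • (v + σ v) := by
      rw [← smul_add, show v - σ v + (v + σ v) = v + v by abel, ← two_smul F v, smul_smul, inv_mul_cancel₀ h2F,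
        one_smul]
    rw [h3]
    refine Submodule.add_mem_sup (Em.smul_mem _ ?_) (Ep.smul_mem _ ?_)
    · rw [hEm, map_sub, hσσ]; abel
    · rw [hEp, map_add, hσσ]; abel
  have hdim := Submodule.finrank_sup_add_finrank_inf_eq Em Ep
  rw [hsup, hinf, finrank_bot, finrank_top, hV] at hdim
  have h1m : finrank F Em ≠ 0 := by
    intro h3
    have h4 : Em = ⊥ := Submodule.finrank_eq_zero.1 h3
    rw [h4, bot_sup_eq] at hsup
    apply hns 1
    rw [map_one]
    ext v
    exact (hEp v).1 (by rw [hsup]; trivial)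
  have h1p : finrank F Ep ≠ 0 := by
    intro h3
    have h4 : Ep = ⊥ := Submodule.finrank_eq_zero.1 h3
    rw [h4, sup_bot_eq] at hsup
    apply hns (-1)
    ext v
    rw [(hEm v).1 (by rw [hsup]; trivial), scal_apply]
    simp
  rcases (show finrank F Em = 1 ∧ finrank F Ep = 2 ∨ finrank F Em = 2 ∧ finrank F Ep = 1 by omega) with h3 | h3
  · exact ⟨σ, hσ, Em, Ep, h3.1, h3.2, fun v hv => (hEm v).1 hv, fun v hv => (hEp v).1 hv⟩
  · refine ⟨scal F V (-1) * σ, mul_mem (hK _) hσ, Ep, Em, h3.2, h3.1, fun v hv => ?_, fun v hv => ?_⟩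
    · rw [LinearEquiv.mul_apply, (hEp v).1 hv, scal_apply]; simp
    · rw [LinearEquiv.mul_apply, (hEm v).1 hv, scal_apply]; simp

/-- a nonscalar map whose square is scalar gives a homology in dimension 3 -/
theorem exists_isHom' {p : ℕ} [hp : Fact p.Prime] [CharP F p] (hp2 : p ≠ 2) (hV : finrank F V = 3)
    {K : Subgroup (V ≃ₗ[F] V)} (hK : ∀ μ, scal F V μ ∈ K) {k : V ≃ₗ[F] V} (hk : k ∈ K) {μ : Fˣ}
    (h2 : k * k = scal F V μ) (hns : ∀ μ, k ≠ scal F V μ) :
    ∃ σ ∈ K, ∃ c W : Submodule F V, finrank F c = 1 ∧ finrank F W = 2 ∧ IsHom c W σ := by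
  have hVf : Module.Finite F V := Module.finite_of_finrank_pos (by omega)
  set d : F := LinearMap.det (k : V →ₗ[F] V) with hd
  have hd0 : d ≠ 0 := (LinearEquiv.isUnit_det' k).ne_zero
  have h3 : d * d = (μ : F) ^ 3 := by
    rw [hd, ← map_mul]
    have h4 : (k : V →ₗ[F] V) * (k : V →ₗ[F] V) = (μ : F) • LinearMap.id := by
      ext v
      have := congrArg (fun g : V ≃ₗ[F] V => g v) h2
      simpa using this
    rw [h4, LinearMap.det_smul, LinearMap.det_id, mul_one, hV]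
  let ν : Fˣ := Units.mk0 d hd0 * μ⁻¹
  have hν : ν * ν = μ := by
    apply Units.ext
    simp only [ν, Units.val_mul, Units.val_mk0, Units.val_inv_eq_inv_val]
    have hμ0 : (μ : F) ≠ 0 := μ.ne_zero
    field_simp
    rw [pow_two, h3]
    try ring
  refine exists_isHom hp2 hV hK (σ := scal F V ν⁻¹ * k) (mul_mem (hK _) hk) ?_ ?_
  · rw [mul_assoc, ← mul_assoc k, ← scal_comm, mul_assoc, ← mul_assoc, h2, ← map_mul, ← map_mul, ← hν]
    rw [show ν⁻¹ * ν⁻¹ * (ν * ν) = 1 by group]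
    exact map_one _
  · intro μ' h4
    apply hns (ν * μ')
    rw [map_mul, ← h4, ← mul_assoc, ← map_mul, mul_inv_cancel, map_one, one_mul]

theorem exists_sub {n : ℕ} (h : n ≤ finrank F V) : ∃ W : Submodule F V, finrank F W = n := by
  obtain ⟨b, hb⟩ := exists_linearIndependent_of_le_finrank h
  exact ⟨Submodule.span F (Set.range b), by rw [finrank_span_eq_card hb, Fintype.card_fin]⟩

/-- the action on the subspaces -/
@[reducible] def actSub (F V : Type*) [Field F] [AddCommGroup V] [Module F V] :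
    MulAction (V ≃ₗ[F] V) (Submodule F V) where
  smul g U := U.map (g : V →ₗ[F] V)
  one_smul U := Submodule.map_id U
  mul_smul g h U := by
    show U.map ((g * h : V ≃ₗ[F] V) : V →ₗ[F] V) = (U.map (h : V →ₗ[F] V)).map (g : V →ₗ[F] V)
    rw [← Submodule.map_comp]
    rfl

theorem map_scal (U : Submodule F V) (μ : Fˣ) : U.map (scal F V μ : V →ₗ[F] V) = U := by
  apply le_antisymm
  · rintro _ ⟨v, hv, rfl⟩
    exact U.smul_mem _ hv
  · intro v hv
    exact ⟨(μ⁻¹ : Fˣ) • v, U.smul_mem _ hv, by simp [Units.smul_def]⟩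

/-- **No `p'`-group is transitive on the flags of a projective plane of odd order.** -/
theorem no_flag_trans {p : ℕ} [hp : Fact p.Prime] [CharP F p] (hp2 : p ≠ 2) [Finite F] (hV : finrank F V = 3)
    (K : Subgroup (V ≃ₗ[F] V)) [Finite K] (hpK : ¬ p ∣ Nat.card K)
    (htr : ∀ c c' W W' : Submodule F V, finrank F c = 1 → finrank F c' = 1 → finrank F W = 2 → finrank F W' = 2 →
      c ≤ W → c' ≤ W' → ∃ k ∈ K, c.map (k : V →ₗ[F] V) = c' ∧ W.map (k : V →ₗ[F] V) = W') : False := by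
  classical
  have hVf : Module.Finite F V := Module.finite_of_finrank_pos (by omega)
  have hfinK := finite_withScal K
  have htr' : ∀ c c' W W' : Submodule F V, finrank F c = 1 → finrank F c' = 1 → finrank F W = 2 → finrank F W' = 2 →
      c ≤ W → c' ≤ W' → ∃ k ∈ withScal K, c.map (k : V →ₗ[F] V) = c' ∧ W.map (k : V →ₗ[F] V) = W' := by
    intro c c' W W' h1 h2 h3 h4 h5 h6
    obtain ⟨k, hk, h⟩ := htr c c' W W' h1 h2 h3 h4 h5 h6
    exact ⟨k, le_withScal K hk, h⟩
  refine no_flag_trans_of hp2 hV (not_dvd_withScal hpK) htr' ?_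
  -- a flag
  obtain ⟨W0, hW0⟩ : ∃ W : Submodule F V, finrank F W = 2 := exists_sub (by omega)
  obtain ⟨c0', hc0'⟩ : ∃ c : Submodule F W0, finrank F c = 1 := exists_sub (by omega)
  obtain ⟨c0, hc0, hcW⟩ : ∃ c : Submodule F V, finrank F c = 1 ∧ c ≤ W0 :=
    ⟨c0'.map W0.subtype, by
      rw [← (Submodule.equivMapOfInjective W0.subtype W0.injective_subtype c0').finrank_eq, hc0'],
      Submodule.map_subtype_le _ _⟩
  let _ := actSub F V
  let G1 : Subgroup (V ≃ₗ[F] V) := withScal K ⊓ MulAction.stabilizer (V ≃ₗ[F] V) W0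
  have hG1fin : Finite G1 := Finite.of_injective _ (Subgroup.inclusion_injective (inf_le_left : G1 ≤ withScal K))
  have hfr : ∀ (U : Submodule F V) (k : V ≃ₗ[F] V), finrank F ↥(U.map (k : V →ₗ[F] V)) = finrank F U := fun U k =>
    LinearEquiv.finrank_map_eq k U
  have horb : MulAction.orbit G1 c0 = {c : Submodule F V | finrank F c = 1 ∧ c ≤ W0} := by
    ext c
    constructor
    · rintro ⟨g, rfl⟩
      refine ⟨(hfr c0 g.1).trans hc0, ?_⟩
      have h1 : W0.map ((g.1 : V ≃ₗ[F] V) : V →ₗ[F] V) = W0 := g.2.2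
      calc c0.map ((g.1 : V ≃ₗ[F] V) : V →ₗ[F] V) ≤ W0.map ((g.1 : V ≃ₗ[F] V) : V →ₗ[F] V) := Submodule.map_mono hcW
        _ = W0 := h1
    · rintro ⟨h1, h2⟩
      obtain ⟨k, hk, h3, h4⟩ := htr' c0 c W0 W0 hc0 h1 hW0 hW0 hcW h2
      exact ⟨⟨k, hk, h4⟩, h3⟩
  have hcard : (MulAction.stabilizer G1 c0).index = Nat.card F + 1 := by
    rw [MulAction.index_stabilizer, horb]
    have h1 := card_pt_le (F := F) W0 hW0
    have h2 : Nat.card {c : Pt F V // c.1 ≤ W0} = Nat.card {c : Submodule F V // finrank F c = 1 ∧ c ≤ W0} :=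
      Nat.card_congr (Equiv.subtypeSubtypeEquivSubtypeInter (fun c : Submodule F V => finrank F c = 1)
        (fun c : Submodule F V => c ≤ W0))
    rw [h2] at h1
    rw [← Nat.card_coe_set_eq]
    refine h1.trans ?_
    rw [Finset.sum_range_succ, Finset.sum_range_one, pow_zero, pow_one, add_comm]
  have hodd : Odd (Nat.card F) := by
    have : Fintype F := Fintype.ofFinite F
    obtain ⟨n, -, hq⟩ := FiniteField.card F p
    rw [Nat.card_eq_fintype_card, hq]
    exact (hp.out.odd_of_ne_two hp2).pow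
  -- a nonscalar element of 2-power order
  obtain ⟨g, hg, m, hgm, hgs⟩ : ∃ g ∈ withScal K, ∃ m : ℕ, g ^ 2 ^ m = 1 ∧ ∀ μ, g ≠ scal F V μ := by
    by_contra hcon
    push Not at hcon
    obtain ⟨Q⟩ : Nonempty (Sylow 2 G1) := inferInstance
    have h1 : (Q : Subgroup G1) ≤ MulAction.stabilizer G1 c0 := by
      intro x hx
      obtain ⟨j, hj⟩ := Q.2 ⟨x, hx⟩
      have hj' : (x : V ≃ₗ[F] V) ^ 2 ^ j = 1 := by
        have h2 := congrArg (fun y : Q => ((y : G1) : V ≃ₗ[F] V)) hj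
        simpa using h2
      obtain ⟨μ, hμ⟩ := hcon x x.2.1 j hj'
      rw [MulAction.mem_stabilizer_iff]
      show c0.map ((x.1 : V ≃ₗ[F] V) : V →ₗ[F] V) = c0
      rw [hμ]
      exact map_scal c0 μ
    have h2 := Subgroup.index_dvd_of_le h1
    rw [hcard] at h2
    exact Q.not_dvd_index ((even_iff_two_dvd.1 hodd.add_one).trans h2)
  have hex : ∃ j, ∃ μ, g ^ 2 ^ j = scal F V μ := ⟨m, 1, by rw [hgm, map_one]⟩
  obtain ⟨μ, hμ⟩ := Nat.find_spec hex
  obtain ⟨j, hj⟩ : ∃ j, Nat.find hex = j + 1 := by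
    refine ⟨Nat.find hex - 1, ?_⟩
    have h1 : Nat.find hex ≠ 0 := by
      intro h2
      rw [h2, pow_zero, pow_one] at hμ
      exact hgs μ hμ
    omega
  refine exists_isHom' hp2 hV (scal_mem_withScal K) (k := g ^ 2 ^ j) (Subgroup.pow_mem _ hg _) (μ := μ) ?_ ?_
  · rw [← hμ, hj, ← pow_add, pow_succ, mul_two]
  · intro μ' h1
    exact Nat.find_min hex (m := j) (by omega) ⟨μ', h1⟩

end Cfsg.Agent.H160.DP
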