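import Cfsg.Agent.H160.DP.Polarity

/-!
# No `p'`-group of linear maps is transitive on the flags of a projective plane of odd order (helper160)

`no_flag_trans` : `V` of dimension 3 over a finite field `F` of odd characteristic `p`, `K` a finite group of linear
maps of order prime to `p`: `K` is not transitive on the incident point-line pairs.

The involutory homologies in `K` (after adjoining the scalars) define a polarity without absolute points.
-/

set_option autoImplicit false

namespace Cfsg.Agent.H160.DP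

open Module

variable {F V : Type*} [Field F] [AddCommGroup V] [Module F V]

/-- `σ` is the involutory homology with centre `c` and axis `W` -/
def IsHom (c W : Submodule F V) (σ : V ≃ₗ[F] V) : Prop :=
  (∀ v ∈ c, σ v = -v) ∧ ∀ v ∈ W, σ v = v

/-- elements `1 + N`, `N ^ 2 = 0`, in a `p'`-group are trivial -/
theorem eq_one_of_sq {p : ℕ} [hp : Fact p.Prime] [CharP F p] {K : Subgroup (V ≃ₗ[F] V)} [Finite K]
    (hpK : ¬ p ∣ Nat.card K) {τ : V ≃ₗ[F] V} (hτ : τ ∈ K) (h : ∀ v, τ (τ v - v) = τ v - v) : τ = 1 := by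
  have h1 : ∀ (k : ℕ) (v : V), (τ ^ k) v = v + k • (τ v - v) := by
    intro k
    induction k with
    | zero => intro v; simp
    | succ k ih =>
      intro v
      rw [pow_succ', LinearEquiv.mul_apply, ih, map_add, map_nsmul, h, succ_nsmul]
      abel
  have h2 : τ ^ p = 1 := by
    ext v
    rw [h1, LinearEquiv.coe_one, id, ← Nat.cast_smul_eq_nsmul F, CharP.cast_eq_zero, zero_smul, add_zero]
  have h3 : orderOf τ ∣ Nat.card K := by
    rw [← Subgroup.orderOf_mk τ hτ]
    exact orderOf_dvd_natCard _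
  rcases (Nat.dvd_prime hp.out).1 (orderOf_dvd_of_pow_eq_one h2) with h4 | h4
  · exact orderOf_eq_one_iff.1 h4
  · exact absurd (h4 ▸ h3) hpK

theorem two_smul_eq_zero {p : ℕ} [hp : Fact p.Prime] [CharP F p] (hp2 : p ≠ 2) {v : V} (h : v + v = 0) : v = 0 := by
  have h2 : (2 : F) ≠ 0 := by
    intro h3
    have h4 : ((2 : ℕ) : F) = 0 := by exact_mod_cast h3
    rw [CharP.cast_eq_zero_iff F p] at h4
    exact hp2 ((Nat.prime_dvd_prime_iff_eq hp.out Nat.prime_two).1 h4)
  rw [← two_smul F v] at h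
  exact (smul_eq_zero.1 h).resolve_left h2

section

variable {p : ℕ} [hp : Fact p.Prime] [CharP F p] (hp2 : p ≠ 2) (hV : finrank F V = 3)
include hp2

theorem IsHom.inf {c W : Submodule F V} {σ : V ≃ₗ[F] V} (h : IsHom c W σ) : c ⊓ W = ⊥ := by
  rw [Submodule.eq_bot_iff]
  intro v hv
  have h1 := h.1 v hv.1
  rw [h.2 v hv.2] at h1
  exact two_smul_eq_zero (F := F) hp2 (by rw [← sub_neg_eq_add, ← h1, sub_self])

include hV

theorem IsHom.exists_add {c W : Submodule F V} {σ : V ≃ₗ[F] V} (h : IsHom c W σ) (hc : finrank F c = 1)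
    (hW : finrank F W = 2) (v : V) : ∃ x ∈ c, ∃ w ∈ W, x + w = v := by
  have hVf : Module.Finite F V := Module.finite_of_finrank_pos (by omega)
  have h1 := Submodule.finrank_sup_add_finrank_inf_eq c W
  rw [h.inf hp2, finrank_bot, hc, hW] at h1
  have h2 : c ⊔ W = ⊤ := Submodule.eq_top_of_finrank_eq (by rw [hV]; omega)
  have h3 : v ∈ c ⊔ W := by rw [h2]; trivial
  exact Submodule.mem_sup.1 h3

theorem IsHom.uniq_axis {K : Subgroup (V ≃ₗ[F] V)} [Finite K] (hpK : ¬ p ∣ Nat.card K) {c W W' : Submodule F V}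
    (hc : finrank F c = 1) (hW : finrank F W = 2) (hW' : finrank F W' = 2) {σ σ' : V ≃ₗ[F] V} (hσ : σ ∈ K)
    (hσ' : σ' ∈ K) (h : IsHom c W σ) (h' : IsHom c W' σ') : W' = W := by
  have hVf : Module.Finite F V := Module.finite_of_finrank_pos (by omega)
  have key : σ * σ' = 1 := by
    apply eq_one_of_sq (F := F) hpK (mul_mem hσ hσ')
    intro v
    obtain ⟨x, hx, w, hw, rfl⟩ := h.exists_add hp2 hV hc hW v
    obtain ⟨x', hx', w', hw', e⟩ := h'.exists_add hp2 hV hc hW' (x + w)
    have h1 : σ' (x + w) = (x + w) - (x' + x') := by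
      rw [← e, map_add, h'.1 x' hx', h'.2 w' hw']; abel
    have h2 : (σ * σ') (x + w) - (x + w) = (x' + x') - (x + x) := by
      rw [LinearEquiv.mul_apply, h1, map_sub, map_add, map_add, h.1 x hx, h.2 w hw, h.1 x' hx']; abel
    have h3 : ∀ y ∈ c, (σ * σ') y = y := by
      intro y hy
      rw [LinearEquiv.mul_apply, h'.1 y hy, map_neg, h.1 y hy, neg_neg]
    rw [h2]
    exact h3 _ (c.sub_mem (c.add_mem hx' hx') (c.add_mem hx hx))
  apply Submodule.eq_of_le_of_finrank_le ?_ (by rw [hW, hW'])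
  intro w' hw'
  have h1 : σ w' = w' := by
    have h2 : (σ * σ') w' = w' := by rw [key]; rfl
    rwa [LinearEquiv.mul_apply, h'.2 w' hw'] at h2
  obtain ⟨x, hx, w, hw, rfl⟩ := h.exists_add hp2 hV hc hW w'
  rw [map_add, h.1 x hx, h.2 w hw] at h1
  have h2 : x = 0 := two_smul_eq_zero (F := F) hp2 (by
    rw [show x + x = (x + w) - (-x + w) by abel, h1, sub_self])
  rw [h2, zero_add]
  exact hw

theorem IsHom.uniq_centre {K : Subgroup (V ≃ₗ[F] V)} [Finite K] (hpK : ¬ p ∣ Nat.card K) {c c' W : Submodule F V}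
    (hc : finrank F c = 1) (hc' : finrank F c' = 1) (hW : finrank F W = 2) {σ σ' : V ≃ₗ[F] V} (hσ : σ ∈ K)
    (hσ' : σ' ∈ K) (h : IsHom c W σ) (h' : IsHom c' W σ') : c' = c := by
  have hVf : Module.Finite F V := Module.finite_of_finrank_pos (by omega)
  have key : σ * σ' = 1 := by
    apply eq_one_of_sq (F := F) hpK (mul_mem hσ hσ')
    intro v
    obtain ⟨x, hx, w, hw, rfl⟩ := h.exists_add hp2 hV hc hW v
    obtain ⟨x', hx', w', hw', e⟩ := h'.exists_add hp2 hV hc' hW (x + w)
    have h1 : σ' (x + w) = -(x + w) + (w' + w') := by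
      rw [← e, map_add, h'.1 x' hx', h'.2 w' hw']; abel
    have h2 : (σ * σ') (x + w) - (x + w) = (w' + w') - (w + w) := by
      rw [LinearEquiv.mul_apply, h1, map_add, map_neg, map_add, map_add, h.1 x hx, h.2 w hw, h.2 w' hw']; abel
    have h3 : ∀ y ∈ W, (σ * σ') y = y := by
      intro y hy
      rw [LinearEquiv.mul_apply, h'.2 y hy, h.2 y hy]
    rw [h2]
    exact h3 _ (W.sub_mem (W.add_mem hw' hw') (W.add_mem hw hw))
  apply Submodule.eq_of_le_of_finrank_le ?_ (by rw [hc, hc'])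
  intro x' hx'
  have h1 : σ x' = -x' := by
    have h2 : (σ * σ') x' = x' := by rw [key]; rfl
    rw [LinearEquiv.mul_apply, h'.1 x' hx', map_neg] at h2
    exact neg_eq_iff_eq_neg.1 h2
  obtain ⟨x, hx, w, hw, rfl⟩ := h.exists_add hp2 hV hc hW x'
  rw [map_add, h.1 x hx, h.2 w hw] at h1
  have h2 : w = 0 := two_smul_eq_zero (F := F) hp2 (by
    rw [show w + w = (-x + w) - (-(x + w)) by abel, h1, sub_self])
  rw [h2, add_zero]
  exact hx

/-- a `p'`-group of linear maps containing the scalars and an involution modulo scalars in each flag stabiliser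
orbit is not transitive on the flags -/
theorem no_flag_trans_of {K : Subgroup (V ≃ₗ[F] V)} [Finite F] [Finite K] (hpK : ¬ p ∣ Nat.card K)
    (htr : ∀ c c' W W' : Submodule F V, finrank F c = 1 → finrank F c' = 1 → finrank F W = 2 → finrank F W' = 2 →
      c ≤ W → c' ≤ W' → ∃ k ∈ K, c.map (k : V →ₗ[F] V) = c' ∧ W.map (k : V →ₗ[F] V) = W')
    (hex : ∃ σ ∈ K, ∃ c W : Submodule F V, finrank F c = 1 ∧ finrank F W = 2 ∧ IsHom c W σ) : False := by
  classical
  have hVf : Module.Finite F V := Module.finite_of_finrank_pos (by omega)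
  -- every point is on a line
  have hline : ∀ c : Submodule F V, finrank F c = 1 → ∃ W : Submodule F V, finrank F W = 2 ∧ c ≤ W := by
    intro c hc
    obtain ⟨v, hv⟩ : ∃ v, v ∉ c := by
      by_contra hcon
      push Not at hcon
      have h1 : c = ⊤ := by rw [eq_top_iff]; intro x _; exact hcon x
      rw [h1, finrank_top, hV] at hc
      omega
    refine ⟨c ⊔ Submodule.span F {v}, ?_, le_sup_left⟩
    have h1 := Submodule.finrank_sup_add_finrank_inf_eq c (Submodule.span F {v})
    have hv0 : v ≠ 0 := fun h0 => hv (h0 ▸ c.zero_mem)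
    have h2 : c ⊓ Submodule.span F {v} = ⊥ := by
      rw [Submodule.eq_bot_iff]
      rintro x ⟨hx1, hx2⟩
      obtain ⟨a, rfl⟩ := Submodule.mem_span_singleton.1 hx2
      by_cases ha : a = 0
      · rw [ha, zero_smul]
      · exact absurd ((c.smul_mem_iff ha).1 hx1) hv
    rw [h2, finrank_bot, hc, finrank_span_singleton hv0] at h1
    omega
  -- homologies
  have hmap : ∀ (c W : Submodule F V) (σ k : V ≃ₗ[F] V), σ ∈ K → k ∈ K → IsHom c W σ →
      IsHom (c.map (k : V →ₗ[F] V)) (W.map (k : V →ₗ[F] V)) (k * σ * k⁻¹) := by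
    intro c W σ k hσ hk h
    constructor
    · rintro _ ⟨v, hv, rfl⟩
      rw [LinearEquiv.mul_apply, LinearEquiv.mul_apply, LinearEquiv.coe_coe]
      have : k⁻¹ (k v) = v := LinearEquiv.symm_apply_apply k v
      rw [this, h.1 v hv, map_neg]
    · rintro _ ⟨v, hv, rfl⟩
      rw [LinearEquiv.mul_apply, LinearEquiv.mul_apply, LinearEquiv.coe_coe]
      have : k⁻¹ (k v) = v := LinearEquiv.symm_apply_apply k v
      rw [this, h.2 v hv]
  have hfr : ∀ (U : Submodule F V) (k : V ≃ₗ[F] V), finrank F ↥(U.map (k : V →ₗ[F] V)) = finrank F U := fun U k =>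
    LinearEquiv.finrank_map_eq k U
  have hall : ∀ c : Pt F V, ∃ W : Submodule F V, finrank F W = 2 ∧ ∃ σ ∈ K, IsHom c.1 W σ := by
    rintro ⟨c, hc⟩
    obtain ⟨σ, hσ, c0, W0, hc0, hW0, h0⟩ := hex
    obtain ⟨W, hW, hcW⟩ := hline c hc
    obtain ⟨W1, hW1, hcW1⟩ := hline c0 hc0
    obtain ⟨k, hk, h1, -⟩ := htr c0 c W1 W hc0 hc hW1 hW hcW1 hcW
    refine ⟨W0.map (k : V →ₗ[F] V), by rw [hfr, hW0], k * σ * k⁻¹, mul_mem (mul_mem hk hσ) (inv_mem hk), ?_⟩
    show IsHom c _ _
    rw [← h1]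
    exact hmap c0 W0 σ k hσ hk h0
  choose δ h2 hδ using hall
  refine no_polarity hV δ h2 ?_ ?_
  · intro c c' hle
    obtain ⟨σ, hσ, h⟩ := hδ c
    obtain ⟨σ', hσ', h'⟩ := hδ c'
    -- `σ` fixes `c'`, hence the axis of `σ'`
    have hc' : c'.1.map (σ : V →ₗ[F] V) = c'.1 := by
      apply Submodule.eq_of_le_of_finrank_eq
      · rintro _ ⟨v, hv, rfl⟩
        rw [LinearEquiv.coe_coe, h.2 v (hle hv)]
        exact hv
      · rw [hfr]
    have h3 := hmap c'.1 (δ c') σ' σ hσ' hσ h'
    rw [hc'] at h3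
    have h4 := h'.uniq_axis hp2 hV hpK c'.2 (h2 c') (by rw [hfr, h2]) hσ' (mul_mem (mul_mem hσ hσ') (inv_mem hσ)) h3
    by_contra hcon
    have h5 : δ c' ≤ δ c := by
      intro w hw
      obtain ⟨x, hx, u, hu, e⟩ := h.exists_add hp2 hV c.2 (h2 c) w
      have h6 : σ w ∈ δ c' := by rw [← h4]; exact ⟨w, hw, rfl⟩
      have h7 : w - σ w = x + x := by rw [← e, map_add, h.1 x hx, h.2 u hu]; abel
      have h8 : x + x ∈ δ c' := h7 ▸ (δ c').sub_mem hw h6
      by_cases hx0 : x = 0
      · rw [hx0, zero_add] at e; rw [← e]; exact hu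
      · exfalso
        apply hcon
        have h9 : x ∈ δ c' := by
          have h2F : (2 : F) ≠ 0 := by
            intro h3
            exact hx0 (two_smul_eq_zero (F := F) hp2 (by rw [← two_smul F x, h3, zero_smul]))
          rw [← two_smul F x] at h8
          exact ((δ c').smul_mem_iff h2F).1 h8
        have h10 : Submodule.span F {x} = c.1 := by
          apply Submodule.eq_of_le_of_finrank_eq
          · rw [Submodule.span_singleton_le_iff_mem]; exact hx
          · rw [finrank_span_singleton hx0, c.2]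
        rw [← h10, Submodule.span_singleton_le_iff_mem]
        exact h9
    have h6 : δ c' = δ c := Submodule.eq_of_le_of_finrank_eq h5 (by rw [h2, h2])
    rw [h6] at h'
    have h7 := h.uniq_centre hp2 hV hpK c.2 c'.2 (h2 c) hσ hσ' h'
    have h8 : c.1 ⊓ δ c = ⊥ := h.inf hp2
    rw [h7] at hle
    have h9 : c.1 = ⊥ := by rw [← h8]; exact (inf_eq_left.2 hle).symm
    have h10 := c.2
    rw [h9, finrank_bot] at h10
    omega
  · intro c hle
    obtain ⟨σ, hσ, h⟩ := hδ c
    have h8 : c.1 ⊓ δ c = ⊥ := h.inf hp2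
    have h9 : c.1 = ⊥ := by rw [← h8]; exact (inf_eq_left.2 hle).symm
    have h10 := c.2
    rw [h9, finrank_bot] at h10
    omega

end

end Cfsg.Agent.H160.DP
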