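import Cfsg.Agent.H817.DPi.Def
import Cfsg.Agent.H160.DP.Psl
import Cfsg.Agent.H855.DP.Psp
import Cfsg.Agent.H14.DP.Orth
import Cfsg.Agent.H874.PD.Base
import Cfsg.Agent.H565.OddBorel

/-!
# S4247, the case `p ∈ π`: reduction of the configurations to exact factorizations (helper160)

* `NoFactN p S` : no exact factorization `S = P₀ H₀` with `P₀` of odd order, not nilpotent, with full `p`-part and `H₀` a
  `p'`-group;
* `exact_of_cfg` : a configuration `Cfg π P K B` with `p ∈ π`, `S` of Lie type in characteristic `p`, has `K = 1` and gives an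
  exact factorization of `S`.
-/

set_option autoImplicit false

namespace Cfsg.Agent.H160.DP

open Subgroup Cfsg Cfsg.Agent.H817.DPi Cfsg.Agent.H160.PD
open scoped Pointwise

universe u

/-- no exact factorization with a non-nilpotent factor of odd order with full `p`-part and a `p'`-factor -/
def NoFactN (p : ℕ) (S : Type*) [Group S] : Prop :=
  ∀ P₀ H₀ : Subgroup S, Odd (Nat.card P₀) → v p P₀ = v p S → ¬ Group.IsNilpotent P₀ → ¬ p ∣ Nat.card H₀ →
    (∀ g : S, ∃ a ∈ P₀, ∃ b ∈ H₀, g = a * b) → False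

theorem noFactN_of {p : ℕ} {S : Type*} [Group S] (h : H14.DP.NoFact p S) : NoFactN p S :=
  fun P₀ H₀ h1 h2 _ h3 h4 => h P₀ H₀ h1 h2 h3 h4

theorem NoFactN.congr {p : ℕ} {S T : Type*} [Group S] [Group T] (e : S ≃* T) (h : NoFactN p T) : NoFactN p S := by
  intro P₀ H₀ h1 h2 h0 h3 h4
  have c1 : Nat.card (P₀.map e.toMonoidHom) = Nat.card P₀ := Subgroup.card_map_of_injective e.injective
  have c2 : Nat.card (H₀.map e.toMonoidHom) = Nat.card H₀ := Subgroup.card_map_of_injective e.injective
  have c3 : Nat.card S = Nat.card T := Nat.card_congr e.toEquiv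
  refine h (P₀.map e.toMonoidHom) (H₀.map e.toMonoidHom) (by rwa [c1]) ?_ ?_ (by rwa [c2]) fun g => ?_
  · unfold v at h2 ⊢
    rw [c1, ← c3]
    exact h2
  · intro hn
    apply h0
    have e1 : ↥P₀ ≃* ↥(P₀.map e.toMonoidHom) := P₀.equivMapOfInjective _ e.injective
    exact Group.nilpotent_of_mulEquiv e1.symm
  · obtain ⟨a, ha, b, hb, hab⟩ := h4 (e.symm g)
    refine ⟨e a, ⟨a, ha, rfl⟩, e b, ⟨b, hb, rfl⟩, ?_⟩
    rw [← map_mul, ← hab, e.apply_symm_apply]

/-- the Sylow subgroup inside a subgroup with full `p`-part -/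
theorem exists_sylow_le {p : ℕ} [Fact p.Prime] {S : Type*} [Group S] [Finite S] {P₀ : Subgroup S}
    (h : v p P₀ = v p S) : ∃ T : Sylow p S, (T : Subgroup S) ≤ P₀ := by
  obtain ⟨Q⟩ : Nonempty (Sylow p P₀) := inferInstance
  have hQ : Nat.card ((Q : Subgroup P₀).map P₀.subtype) = p ^ (Nat.card S).factorization p := by
    rw [Subgroup.card_map_of_injective P₀.subtype_injective, Q.card_eq_multiplicity]
    exact congrArg _ h
  refine ⟨Sylow.ofCard _ hQ, ?_⟩
  rintro _ ⟨y, -, rfl⟩
  exact y.2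

/-- from the normaliser form -/
theorem noFactN_of_norm {p : ℕ} [Fact p.Prime] (hp2 : p ≠ 2) {S : Type*} [Group S] [Finite S] (hS : IsLieTypeChar p S)
    (h : ∀ (P H : Subgroup S) (T : Sylow p S), Odd (Nat.card P) → ¬ Group.IsNilpotent P →
      (∀ g, ∃ a ∈ P, ∃ b ∈ H, g = a * b) → P ≤ normalizer ((T : Subgroup S) : Set S) → (T : Subgroup S) ≤ P →
      ¬ p ∣ Nat.card H → False) : NoFactN p S := by
  intro P₀ H₀ h1 h2 h0 h3 h4
  obtain ⟨T, hT⟩ := exists_sylow_le h2
  exact h P₀ H₀ T h1 h0 h4 (H565.OddBorel.oddLe_of_lie hp2 hS T P₀ hT h1) hT h3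

/-- `K = 1` and the factorization of `S` is exact -/
theorem exact_of_cfg {π : Set ℕ} {S : Type u} [Group S] [Finite S] [IsSimpleGroup S] {p : ℕ} (hp : p.Prime)
    (hpπ : p ∈ π) (hS : IsLieTypeChar p S) {P : Subgroup S} {K B : Subgroup (MulAut S)} (hc : Cfg π P K B) :
    K = ⊥ ∧ Odd (Nat.card P) ∧ v p P = v p S ∧ ¬ p ∣ Nat.card (B.comap (MulAut.conj : S →* MulAut S)) ∧
      ∀ g : S, ∃ a ∈ P, ∃ b ∈ B.comap (MulAut.conj : S →* MulAut S), g = a * b := by
  classical
  have hodd : Odd (Nat.card P) := H565.OddBorel.odd_card_of_hall hc.two hc.hall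
  have hv : v p P = v p S := by
    have h1 := hc.hall.2 p hp hpπ
    have h2 := P.card_mul_index
    unfold v
    rw [← h2, Nat.factorization_mul Nat.card_pos.ne' P.index_ne_zero_of_finite, Finsupp.add_apply,
      Nat.factorization_eq_zero_of_not_dvd h1, add_zero]
  have hK : K = ⊥ := by
    by_contra hK
    have hKc : Nat.card K ≠ 1 := fun h => hK (Subgroup.card_eq_one.1 h)
    obtain ⟨r, hr, hrK⟩ := Nat.exists_prime_and_dvd hKc
    have := Fact.mk hr
    obtain ⟨k, hk⟩ := exists_prime_orderOf_dvd_card' r hrK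
    have hk' : orderOf (k : MulAut S) = r := by rw [Subgroup.orderOf_coe, hk]
    have hrp : r ≠ p := by
      rintro rfl
      exact hc.piK r hr hpπ hrK
    have h1 := H874.PD.v_Fx_lt hp hS (b := (k : MulAut S)) (by rwa [hk']) (by rw [hk']; exact hrp)
    have h2 : P ≤ Fx (k : MulAut S) := fun x hx => hc.fix k k.2 x hx
    have h3 : Nat.card P ∣ Nat.card (Fx (k : MulAut S)) := Subgroup.card_dvd_of_le h2
    have h4 : v p P ≤ v p (Fx (k : MulAut S)) :=
      (Nat.factorization_le_iff_dvd Nat.card_pos.ne' Nat.card_pos.ne').2 h3 p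
    omega
  refine ⟨hK, hodd, hv, ?_, ?_⟩
  · intro h
    refine hc.piB p hp hpπ (h.trans ?_)
    have h1 : Function.Injective (MulAut.conj : S →* MulAut S) := by
      rw [injective_iff_map_eq_one]
      intro x hx
      by_contra hx1
      have hcen : center S = ⊥ := by
        rcases (inferInstance : (center S).Normal).eq_bot_or_eq_top with h | h
        · exact h
        · exfalso
          apply hc.nnil
          have hcomm : ∀ a b : S, a * b = b * a := fun a b =>
            (Subgroup.mem_center_iff.1 (h ▸ Subgroup.mem_top b : b ∈ center S) a)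
          let i : CommGroup P := { (inferInstance : Group P) with mul_comm := fun a b => Subtype.ext (hcomm a b) }
          exact CommGroup.isNilpotent (G := P)
      apply hx1
      have h2 : x ∈ center S := by
        rw [Subgroup.mem_center_iff]
        intro g
        have h3 := DFunLike.congr_fun hx g
        rw [MulAut.conj_apply, MulAut.one_apply] at h3
        rw [mul_inv_eq_iff_eq_mul] at h3
        exact h3.symm
      rw [hcen, Subgroup.mem_bot] at h2
      exact h2
    have h2 := Subgroup.card_dvd_of_le (show (B.comap (MulAut.conj : S →* MulAut S)).map MulAut.conj ≤ B from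
      Subgroup.map_comap_le _ _)
    rwa [Subgroup.card_map_of_injective h1] at h2
  · intro g
    have h1 : MulAut.conj g ∈ B ⊔ Cfsg.Agent.H571.RV.inn S := le_sup_right (a := B) ⟨g, rfl⟩
    obtain ⟨x, hx, k, hk, b, hb, hab⟩ := hc.fac _ h1
    rw [hK, Subgroup.mem_bot] at hk
    rw [hk, mul_one] at hab
    refine ⟨x, hx, x⁻¹ * g, ?_, by group⟩
    rw [Subgroup.mem_comap, map_mul, map_inv, hab]
    simpa using hb

theorem false_of_noFactN {π : Set ℕ} {S : Type u} [Group S] [Finite S] [IsSimpleGroup S] {p : ℕ} (hp : p.Prime)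
    (hpπ : p ∈ π) (hS : IsLieTypeChar p S) (hN : NoFactN p S) {P : Subgroup S} {K B : Subgroup (MulAut S)}
    (hc : Cfg π P K B) : False := by
  obtain ⟨-, h1, h2, h3, h4⟩ := exact_of_cfg hp hpπ hS hc
  exact hN P _ h1 h2 hc.nnil h3 h4

end Cfsg.Agent.H160.DP
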