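import Mathlib

/-!
# A polarity of `PG(2, q)` has absolute points (helper160)

`no_polarity` : there is no injective map `δ` from the points to the lines of a projective plane over a finite field
with `x ∈ δ y ↔ y ∈ δ x` and `x ∉ δ x` (Baer). Proof with the trace of the incidence matrix over `ZMod p`.
-/

set_option autoImplicit false

namespace Cfsg.Agent.H160.DP

open Module Matrix

variable {F V : Type*} [Field F] [AddCommGroup V] [Module F V]

/-- the points -/
abbrev Pt (F V : Type*) [Field F] [AddCommGroup V] [Module F V] := {c : Submodule F V // finrank F c = 1}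

theorem card_pt [Finite F] {n : ℕ} (h : finrank F V = n) :
    Nat.card (Pt F V) = ∑ i ∈ Finset.range n, Nat.card F ^ i := by
  rw [← Projectivization.card_of_finrank F V h]
  exact (Nat.card_congr (Projectivization.equivSubmodule F V)).symm

/-- the points of a subspace -/
theorem card_pt_le [Finite F] (W : Submodule F V) {n : ℕ} (h : finrank F W = n) :
    Nat.card {c : Pt F V // c.1 ≤ W} = ∑ i ∈ Finset.range n, Nat.card F ^ i := by
  rw [← card_pt (F := F) (V := W) h]
  refine Nat.card_congr
    { toFun := fun c => ⟨c.1.1.comap W.subtype, ?_⟩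
      invFun := fun d => ⟨⟨d.1.map W.subtype, ?_⟩, ?_⟩
      left_inv := ?_
      right_inv := ?_ }
  · have h1 := c.1.2
    have h2 : finrank F ↥((c.1.1.comap W.subtype).map W.subtype) = finrank F ↥(c.1.1.comap W.subtype) :=
      (Submodule.equivMapOfInjective W.subtype W.injective_subtype _).finrank_eq.symm
    rw [Submodule.map_comap_subtype, inf_eq_right.2 c.2, h1] at h2
    exact h2.symm
  · rw [← (Submodule.equivMapOfInjective W.subtype W.injective_subtype d.1).finrank_eq]
    exact d.2
  · exact Submodule.map_subtype_le W d.1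
  · intro c
    apply Subtype.ext
    apply Subtype.ext
    show (c.1.1.comap W.subtype).map W.subtype = c.1.1
    rw [Submodule.map_comap_subtype, inf_eq_right.2 c.2]
  · intro d
    apply Subtype.ext
    exact Submodule.comap_map_eq_of_injective W.injective_subtype d.1

theorem no_polarity [Finite F] (hV : finrank F V = 3) (δ : Pt F V → Submodule F V)
    (h2 : ∀ c, finrank F (δ c) = 2) (hsym : ∀ c c' : Pt F V, c'.1 ≤ δ c → c.1 ≤ δ c')
    (habs : ∀ c : Pt F V, ¬ c.1 ≤ δ c) : False := by
  classical
  obtain ⟨p, hp⟩ := CharP.exists F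
  have : Fintype F := Fintype.ofFinite F
  obtain ⟨n, hpp, hq⟩ := FiniteField.card F p
  have hpF : Fact p.Prime := ⟨hpp⟩
  have hVf : Module.Finite F V := Module.finite_of_finrank_pos (by omega)
  have hVfin : Finite V := Module.finite_of_finite F
  have hfin : Finite (Pt F V) := by
    have : Finite (Submodule F V) := inferInstance
    infer_instance
  have : Fintype (Pt F V) := Fintype.ofFinite _
  have hq0 : ((Nat.card F : ℕ) : ZMod p) = 0 := by
    rw [Nat.card_eq_fintype_card, hq, Nat.cast_pow, CharP.cast_eq_zero, zero_pow n.ne_zero]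
  have hcnt : ∀ (W : Submodule F V) {k : ℕ}, 1 ≤ k → finrank F W = k →
      ((Nat.card {c : Pt F V // c.1 ≤ W} : ℕ) : ZMod p) = 1 := by
    intro W k hk hW
    obtain ⟨j, rfl⟩ : ∃ j, k = j + 1 := ⟨k - 1, by omega⟩
    rw [card_pt_le W hW, Finset.sum_range_succ', Nat.cast_add, Nat.cast_sum, Finset.sum_eq_zero]
    · rw [pow_zero, Nat.cast_one, zero_add]
    · intro i _
      rw [Nat.cast_pow, hq0, zero_pow (Nat.succ_ne_zero i)]
  let M : Matrix (Pt F V) (Pt F V) (ZMod p) := Matrix.of fun c c' => if c'.1 ≤ δ c then 1 else 0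
  let J : Matrix (Pt F V) (Pt F V) (ZMod p) := Matrix.of fun _ _ => 1
  have hMJ : M * J = J := by
    ext c c''
    simp only [Matrix.mul_apply, M, J, mul_one, Matrix.of_apply]
    rw [Finset.sum_boole, ← hcnt (δ c) (by norm_num) (h2 c), Nat.card_eq_fintype_card, Fintype.card_subtype]
  have hMM : M * M = J := by
    ext c c''
    simp only [Matrix.mul_apply, M, J, Matrix.of_apply]
    have h1 : ∀ x : Pt F V, ((if x.1 ≤ δ c then (1 : ZMod p) else 0) * if c''.1 ≤ δ x then 1 else 0) =
        if x.1 ≤ δ c ⊓ δ c'' then 1 else 0 := by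
      intro x
      have h3 : c''.1 ≤ δ x ↔ x.1 ≤ δ c'' := ⟨hsym x c'', hsym c'' x⟩
      by_cases h4 : x.1 ≤ δ c <;> by_cases h5 : x.1 ≤ δ c'' <;> simp [h3, h4, h5, le_inf_iff]
    simp only [h1]
    rw [Finset.sum_boole]
    obtain ⟨k, hk1, hk⟩ : ∃ k, 1 ≤ k ∧ finrank F ↥(δ c ⊓ δ c'') = k := by
      refine ⟨_, ?_, rfl⟩
      have h3 := Submodule.finrank_sup_add_finrank_inf_eq (δ c) (δ c'')
      rw [h2, h2] at h3
      have h4 : finrank F ↥(δ c ⊔ δ c'') ≤ 3 := hV ▸ Submodule.finrank_le _
      omega
    rw [← hcnt (δ c ⊓ δ c'') hk1 hk, Nat.card_eq_fintype_card, Fintype.card_subtype]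
  have hpow : ∀ k, M ^ (k + 2) = J := by
    intro k
    induction k with
    | zero => rw [zero_add, pow_two, hMM]
    | succ k ih => rw [show k + 1 + 2 = (k + 2) + 1 by ring, pow_succ', ih, hMJ]
  have htr : Matrix.trace M = 0 := by
    rw [Matrix.trace]
    apply Finset.sum_eq_zero
    intro c _
    simp [M, Matrix.diag, habs c]
  have h3 := ZMod.trace_pow_card M
  rw [htr, zero_pow hpp.ne_zero] at h3
  have h6 : M ^ p = J := by
    have := hpow (p - 2)
    rwa [Nat.sub_add_cancel hpp.two_le] at this
  have h4 : Matrix.trace (M ^ p) = 1 := by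
    rw [h6]
    have h5 : (Nat.card (Pt F V) : ZMod p) = 1 := by
      rw [card_pt hV, Finset.sum_range_succ', Nat.cast_add, Nat.cast_sum, Finset.sum_eq_zero]
      · rw [pow_zero, Nat.cast_one, zero_add]
      · intro i _
        rw [Nat.cast_pow, hq0, zero_pow (Nat.succ_ne_zero i)]
    simp only [Matrix.trace, J, Matrix.diag_apply, Matrix.of_apply, Finset.sum_const, Finset.card_univ, nsmul_eq_mul,
      mul_one]
    rw [← h5, Nat.card_eq_fintype_card]
  rw [h4] at h3
  exact one_ne_zero h3

end Cfsg.Agent.H160.DP
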