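import Cfsg.Agent.H160.DP.Own
import Cfsg.Agent.H855.DP.Psp4
import Cfsg.Agent.SmallSimple.S1000.PSLFacts

/-!
# S4247, the case `p ∈ π`: the row `PSp_4(q)`, `q` odd (helper160)

`q > 3` is `H855.DP.psp4_no_exact`; for `q = 3` a subgroup of odd order normalising a Sylow 3-subgroup is a 3-group.
-/

set_option autoImplicit false

namespace Cfsg.Agent.H160.DP

open Module Subgroup Cfsg Cfsg.Agent.H817.DPi Cfsg.Agent.H160.PD Cfsg.Agent.H855.DP
open scoped Pointwise

section abs

variable {F V K : Type*} [Field F] [AddCommGroup V] [Module F V] [Group K] {ρ : K →* (V ≃ₗ[F] V)}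
  {B : LinearMap.BilinForm F V}

/-- five does not divide the order of a stabiliser of a flag for `q = 3` -/
theorem not_five_dvd [Fintype F] [CharP F 3] (hF : Fintype.card F = 3) [FiniteDimensional F V] [Finite K]
    (hρ : Function.Injective ρ) (ha : ∀ v, B v v = 0) (hnd : B.Nondegenerate)
    (hiso : ∀ (g : K) (u v : V), B (ρ g u) (ρ g v) = B u v)
    (hall : ∀ z : Module.End F V, (∀ u v, B (z u) (z v) = B u v) → ∃ g : K, ∀ v, ρ g v = z v)
    (hdim : finrank F V = 4) (P : Subgroup K) (hK : ¬ 25 ∣ Nat.card K)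
    {U : Subgroup K} (hU : IsPGroup 3 U) (hmax : ∀ X : Subgroup K, IsPGroup 3 X → U ≤ X → X = U)
    (hPU : ∀ g ∈ P, ∀ u ∈ U, g * u * g⁻¹ ∈ U) : ¬ 5 ∣ Nat.card P := by
  classical
  have : Fact (Nat.Prime 3) := ⟨by norm_num⟩
  have : Fact (Nat.Prime 5) := ⟨by norm_num⟩
  have : Finite V := Module.finite_of_finite F
  intro h5
  obtain ⟨v0, hv0, hPv⟩ := exists_line hρ ha hnd hiso hall hdim P hU hmax hPU
  obtain ⟨x, hx⟩ := exists_prime_orderOf_dvd_card' 5 h5
  have hx5 : (x : K) ^ 5 = 1 := by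
    rw [← hx, ← Subgroup.orderOf_coe]
    exact pow_orderOf_eq_one _
  obtain ⟨c, hc⟩ := hPv x x.2
  have hpow : ∀ n : ℕ, ρ ((x : K) ^ n) v0 = c ^ n • v0 := by
    intro n
    induction n with
    | zero => rw [pow_zero, pow_zero, map_one, one_smul]; rfl
    | succ n ih =>
      rw [pow_succ, map_mul, LinearEquiv.mul_apply, hc, map_smul, ih, smul_smul, pow_succ, mul_comm]
  have hc5 : c ^ 5 = 1 := by
    have h1 := hpow 5
    rw [hx5, map_one] at h1
    have h2 : (1 : F) • v0 = c ^ 5 • v0 := by rw [one_smul]; exact h1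
    by_contra h3
    have h4 : (c ^ 5 - 1) • v0 = 0 := by rw [sub_smul, ← h2, sub_self]
    rcases smul_eq_zero.1 h4 with h | h
    · exact h3 (sub_eq_zero.1 h)
    · exact hv0 h
  have hc3 : c ^ 3 = c := by
    have := FiniteField.pow_card c
    rwa [hF] at this
  have hc1 : c = 1 := by
    have hc0 : c ≠ 0 := by
      rintro rfl
      norm_num at hc5
    have h2 : c ^ 2 = 1 := by
      have : c * (c ^ 2 - 1) = 0 := by linear_combination hc3
      rcases mul_eq_zero.1 this with h | h
      · exact absurd h hc0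
      · linear_combination h
    have h3 : c ^ 5 = c := by
      have : c ^ 5 = (c ^ 2) ^ 2 * c := by ring
      rw [this, h2]; ring
    rw [← h3, hc5]
  -- the action on the vectors
  let φ : K →* Equiv.Perm V :=
    { toFun := fun g => (ρ g).toEquiv
      map_one' := by rw [map_one]; rfl
      map_mul' := fun g h => by rw [map_mul]; rfl }
  let act : MulAction K V := MulAction.compHom V φ
  have hact : ∀ (g : K) (v : V), g • v = ρ g v := fun g v => rfl
  have hxs : (x : K) ∈ MulAction.stabilizer K v0 := by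
    rw [MulAction.mem_stabilizer_iff, hact, hc, hc1, one_smul]
  have h6 : 5 ∣ Nat.card (MulAction.stabilizer K v0) := by
    have h7 : orderOf (⟨x, hxs⟩ : MulAction.stabilizer K v0) = 5 := by
      rw [← Subgroup.orderOf_coe, Subgroup.orderOf_coe x, hx]
    rw [← h7]
    exact orderOf_dvd_natCard _
  have h8 : MulAction.orbit K v0 = {v | v ≠ 0} := by
    ext v
    constructor
    · rintro ⟨g, rfl⟩
      show ρ g v0 ≠ 0
      rwa [Ne, LinearEquiv.map_eq_zero_iff]
    · intro hv
      obtain ⟨g, hg⟩ := tr_vec (ρ := ρ) ha hnd hall hv0 hv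
      exact ⟨g, hg⟩
  have h9 : Nat.card (MulAction.orbit K v0) = 80 := by
    have hV : Nat.card V = 81 := by
      rw [Module.natCard_eq_pow_finrank (K := F), hdim, Nat.card_eq_fintype_card, hF]
      norm_num
    have := Fintype.ofFinite V
    rw [h8, Nat.card_eq_fintype_card]
    have h10 : Fintype.card {v : V // v ≠ 0} = Fintype.card V - 1 := by
      have := Fintype.card_subtype_compl (fun v : V => v = 0)
      rw [Fintype.card_subtype_eq] at this
      convert this
    rw [Nat.card_eq_fintype_card] at hV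
    rw [hV] at h10
    exact h10
  have h10 : Nat.card K = Nat.card (MulAction.orbit K v0) * Nat.card (MulAction.stabilizer K v0) := by
    rw [Nat.card_congr (MulAction.orbitEquivQuotientStabilizer K v0)]
    exact Subgroup.card_eq_card_quotient_mul_card_subgroup _
  apply hK
  rw [h10, h9]
  obtain ⟨k, hk⟩ := h6
  rw [hk]
  exact ⟨16 * k, by ring⟩

end abs

open Cfsg.Agent.H170.HL Cfsg.Agent.H170.HL.SpRow Matrix Cfsg.Agent.H167.OP in
/-- `PSp_4(3)`: five does not divide `|P|` -/
theorem psp4_three {F : Type} [Field F] [Fintype F] [CharP F 3] (hF : Fintype.card F = 3)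
    (P H : Subgroup (Cfsg.PSp 2 F)) (hPH : ∀ g, ∃ a ∈ P, ∃ b ∈ H, g = a * b)
    (T : Sylow 3 (Cfsg.PSp 2 F))
    (hT : P ≤ normalizer ((T : Subgroup (Cfsg.PSp 2 F)) : Set (Cfsg.PSp 2 F))) (hH : ¬ 3 ∣ Nat.card H) :
    ¬ 5 ∣ Nat.card P := by
  classical
  have : Fact (Nat.Prime 3) := ⟨by norm_num⟩
  have hfin : Finite (Matrix.symplecticGroup (Fin 2) F) := inferInstance
  have h2 : (2 : F) ≠ 0 := by
    intro h
    have h1 : ((2 : ℕ) : F) = 0 := by exact_mod_cast h
    rw [CharP.cast_eq_zero_iff F 3] at h1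
    norm_num at h1
  let f : Matrix.symplecticGroup (Fin 2) F →* Cfsg.PSp 2 F :=
    QuotientGroup.mk' (Subgroup.center (Matrix.symplecticGroup (Fin 2) F))
  have hf : Function.Surjective f := QuotientGroup.mk'_surjective _
  have hfS : Finite (Cfsg.PSp 2 F) := Finite.of_surjective f hf
  have hfk : ∀ z, f z = 1 ↔ z ∈ Subgroup.center (Matrix.symplecticGroup (Fin 2) F) := fun z => by
    rw [← QuotientGroup.eq_one_iff]
    rfl
  have hker : ∀ z, f z = 1 → ∀ x, z * x = x * z := fun z hz x =>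
    (Subgroup.mem_center_iff.mp ((hfk z).mp hz) x).symm
  have hkp : ¬ 3 ∣ Nat.card f.ker := by
    intro h
    obtain ⟨z, hz⟩ := exists_prime_orderOf_dvd_card' 3 h
    have h1 := Cfsg.Agent.ClassicalGeometry.SympInvolutions.center_eq ((hfk z).mp z.2)
    have h3 : z ^ 2 = 1 := by
      apply Subtype.ext
      apply Subtype.ext
      rw [pow_two]
      show ((z : Matrix.symplecticGroup (Fin 2) F) : Matrix (Fin 2 ⊕ Fin 2) (Fin 2 ⊕ Fin 2) F) *
        ((z : Matrix.symplecticGroup (Fin 2) F) : Matrix (Fin 2 ⊕ Fin 2) (Fin 2 ⊕ Fin 2) F) = 1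
      rcases h1 with h | h
      · rw [h, one_mul]
      · rw [h, neg_mul_neg, one_mul]
    have h4 := orderOf_dvd_of_pow_eq_one h3
    rw [hz] at h4
    norm_num at h4
  obtain ⟨P', H', U, h1, h3', h4, hP', hH', -⟩ := exists_lift f hf hker hkp hPH hH T hT
  have ha : ∀ v, frm 2 F v v = 0 := by
    intro v
    have h5 := frm_sym (F := F) (m := 2) v v
    have h6 : (2 : F) * frm 2 F v v = 0 := by linear_combination h5
    exact (mul_eq_zero.mp h6).resolve_left h2
  have hnd : LinearMap.BilinForm.Nondegenerate (frm 2 F : LinearMap.BilinForm F (Fin 2 ⊕ Fin 2 → F)) := by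
    refine ⟨fun x hx => frm_nondeg x fun y => ?_, fun x hx => frm_nondeg x hx⟩
    rw [frm_sym, hx y, mul_zero]
  have hcard : ¬ 25 ∣ Nat.card (Matrix.symplecticGroup (Fin 2) F) := by
    rw [Cfsg.Agent.LieClassical.SympCount.card_symplecticGroup (F := F) 2, hF]
    norm_num [Finset.prod_range_succ]
  have key := not_five_dvd (ρ := spRep 2 F) (B := frm 2 F) hF ?_ ha hnd (fun g u v => frm_iso g u v) (fun z hz => ?_)
    ?_ P' hcard U.isPGroup' (fun X hX hUX => U.is_maximal' hX hUX) h4
  · intro h5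
    apply key
    have h6 : P'.map f = P := by rw [hP', Subgroup.map_comap_eq_self_of_surjective hf]
    rw [← h6] at h5
    exact h5.trans (card_map_dvd P' f)
  · intro a b hab
    refine rep_injective (inc_injective (m := 2) (F := F)) ?_
    apply LinearMap.ext
    intro v
    rw [← spRep_apply, ← spRep_apply, hab]
  · obtain ⟨A, hA⟩ := exists_of_iso z hz
    exact ⟨A, fun v => by rw [spRep_apply, hA]⟩
  · rw [Module.finrank_fintype_fun_eq_card, Fintype.card_sum, Fintype.card_fin]

/-- **the row `PSp_4(q)`** -/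
theorem pspFour (F : Type) [Field F] [Fintype F] (p : ℕ) [Fact p.Prime] [CharP F p] (hp2 : p ≠ 2) :
    NoFactN p (PSp 2 F) := by
  classical
  have hp : p.Prime := Fact.out
  have h3 : 3 ≤ Fintype.card F := by
    obtain ⟨n, -, hn⟩ := FiniteField.card F p
    rw [hn]
    calc 3 ≤ p := by have := hp.two_le; omega
      _ = p ^ 1 := (pow_one p).symm
      _ ≤ p ^ (n : ℕ) := Nat.pow_le_pow_right hp.pos n.pos
  have hS' : IsLieTypeChar p (PSp 2 F) :=
    Or.inr (Or.inl ⟨F, inferInstance, inferInstance, inferInstance, 2, le_rfl, fun h => by omega, ⟨MulEquiv.refl _⟩⟩)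
  refine noFactN_of_norm hp2 hS' fun P H T ho hnn h1 h2 hTP h5 => ?_
  rcases h3.lt_or_eq with h | h
  · exact psp4_no_exact hp2 h P H h1 ho T h2 h5
  · obtain rfl : p = 3 := by
      obtain ⟨n, -, hn⟩ := FiniteField.card F p
      rw [← h] at hn
      have h6 : p ∣ 3 := by rw [hn]; exact dvd_pow_self p n.pos.ne'
      exact (Nat.prime_dvd_prime_iff_eq hp Nat.prime_three).1 h6
    have h7 := psp4_three h.symm P H h1 T h2 h5
    apply hnn
    have h8 : Nat.card P ∣ 25920 := by
      rw [← Cfsg.Agent.SmallSimple.PSLFacts.card_psp_two_three h.symm]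
      exact Subgroup.card_subgroup_dvd_card P
    have h9 : Nat.card P ∣ 3 ^ 4 := by
      have h10 : (Nat.card P).Coprime (2 ^ 6) := by
        apply Nat.Coprime.pow_right
        exact (Nat.coprime_two_right).2 ho
      have h11 : (Nat.card P).Coprime 5 := (Nat.Prime.coprime_iff_not_dvd (by norm_num)).2 h7 |>.symm
      have h12 : (25920 : ℕ) = 2 ^ 6 * (5 * 3 ^ 4) := by norm_num
      rw [h12] at h8
      exact h11.dvd_of_dvd_mul_left (h10.dvd_of_dvd_mul_left h8)
    obtain ⟨k, -, hk⟩ := (Nat.dvd_prime_pow Nat.prime_three).1 h9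
    exact (IsPGroup.of_card hk).isNilpotent

end Cfsg.Agent.H160.DP
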